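import Cfsg.Agent.McLRecog.CertA.Tables

/-!
Generated coset enumeration certificate: steps.
-/

set_option autoImplicit false
set_option maxRecDepth 20000
set_option linter.style.longLine false

namespace Cfsg.Lib.McLRecog.CertA

open Cfsg.Lib.CosetCert

/-- Steps. -/
def js0 : List (ℕ × ℕ) := [
  (1, 0), (1, 0), (1, 0), (1, 0), (0, 0), (20, 0x900000200000800000200000800000a), (0, 0),
  (16, 0xd00000900000400000a00000e), (21, 0xd00000c00000900000800000400000200000a),
  (23, 0xd00000c00000900000800000400000a00000c000012), (0, 0),
  (14, 0x1500001200001400001100000c00000e00001400000d000016), (0, 0),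
  (14, 0x1900001100000c00001200001400000d00000c00000e00001a), (0, 0),
  (15, 0x1d00001500001200000d00000c00000e00001100001600001e), (25, 0x1d00001500000900000400000600000a00000e00001a),
  (0, 0), (13, 0x2300001800001e00002000001d00001500000c000016000024), (0, 0),
  (20, 0x27000018000024000026000023000028), (0, 0), (2, 0x2b00001900000d00001600001e),
  (10, 0x2b00001900000d00001200000d00001600001e), (12, 0x2b00001c00002c00002d00002000002e00002f000020000030),
  (26, 0x2300001e00003000003100002b00002200002000001d000024), (18, 0x27000024000034000023000028), (0, 0),
  (5, 0x3700002c00003200002f00001d000024000026), (4, 0x3700002c00002f00002000001d00002400003a),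
  (8, 0x37000019000014000011000016000024000026), (0, 0), (16, 0x3f00002700001e00002100002c),
  (22, 0x3f00003600002700001800001e000030000042), (24, 0x3f00002700001500000e00001000001a00002c000042), (0, 0),
  (3, 0x4700004000004600003f000048), (14, 0x4700003600002a00003600002a00004000004400003f000048),
  (25, 0x4900004700002700001e00002e00004200003f000048), (0, 0), (17, 0x4f00003900003400003a000050),
  (18, 0x4f000037000022000030000042), (19, 0x5300004300005400004f00003c000050), (0, 0),
  (9, 0x5700004c00004700003600004800004c000058), (13, 0x5700004c00004a00004c00004a00004700002a000048000058), (0, 0),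
  (7, 0x5d00005600005300004600005400005600005e), (6, 0x5f00005d00005300004400004600005400005e),
  (11, 0x5d00005200005300003f00004800004a000058), (25, 0x6400005d00004f00003900003e00005000005200005e)]

theorem ok0 : Piece cert spec.length 0 51 js0 := by
  unfold Piece
  decide +kernel

/-- Steps of this file. -/
def part0 : List (ℕ × ℕ) := js0

theorem part0_ok : Piece cert spec.length 0 51 part0 :=
  ok0

end Cfsg.Lib.McLRecog.CertA
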